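import Cfsg.Agent.H867.Max.MTwentyTwo
import Cfsg.Agent.SporadicA.OctadFix

/-!
# Subgroups of index 77 of the Mathieu group of degree 22 (S4908)

A subgroup of index 77 of `M22` is the stabiliser of a hexad (an octad through the two fixed points).
-/

set_option autoImplicit false

open scoped Pointwise

namespace Cfsg.Agent.H911.S8

open Cfsg MulAction Cfsg.Agent.H867.Max.Oct Cfsg.Agent.H867.Max.MTwentyTwo
open Cfsg.Agent.SporadicA.OctadFix

/-- a permutation with `π ^ 5 = 1` fixes the points of an invariant set with less than five points -/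
theorem fix_of_small {α : Type*} [DecidableEq α] {π : Equiv.Perm α} (h5 : π ^ 5 = 1) {U : Finset α}
    (hU : ∀ x ∈ U, π x ∈ U) (hc : U.card < 5) : ∀ x ∈ U, π x = x := by
  intro x hx
  have hp : Function.IsPeriodicPt π 5 x := by
    show (π : α → α)^[5] x = x
    rw [← Equiv.Perm.coe_pow, h5]; rfl
  have hd : Function.minimalPeriod π x ∣ 5 := hp.minimalPeriod_dvd
  rcases (Nat.dvd_prime (by norm_num)).1 hd with h | h
  · exact Function.minimalPeriod_eq_one_iff_isFixedPt.1 h
  · exfalso
    have hin : ∀ n : ℕ, (π : α → α)^[n] x ∈ U := by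
      intro n
      induction n with
      | zero => exact hx
      | succ n ih => rw [Function.iterate_succ_apply']; exact hU _ ih
    have hinj : Set.InjOn (fun n => (π : α → α)^[n] x) (Finset.range 5 : Set ℕ) := by
      have := Function.iterate_injOn_Iio_minimalPeriod (f := (π : α → α)) (x := x)
      rw [h] at this
      intro a ha b hb hab
      exact this (by simpa using ha) (by simpa using hb) hab
    have h1 := Finset.card_le_card_of_injOn (s := Finset.range 5) (t := U) (fun n => (π : α → α)^[n] x)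
      (fun n _ => hin n) hinj
    rw [Finset.card_range] at h1
    omega

/-- an element of `M24` with `π ^ 5 = 1` and five fixed points is trivial -/
theorem eq_one_of_five {π : Equiv.Perm GolayPt} (hπ : π ∈ M24) (h5 : π ^ 5 = 1) {s : Finset GolayPt}
    (hs : 5 ≤ s.card) (hf : ∀ x ∈ s, π x = x) : π = 1 := by
  obtain ⟨s5, hss, hc⟩ := Finset.exists_subset_card_eq hs
  obtain ⟨o, ⟨ho, hso⟩, huniq⟩ := Cfsg.Agent.S0363.result.2 s5 hc
  have hfix : ∀ x ∈ s5, π x = x := fun x hx => hf x (hss hx)
  have ho' : π • o = o := by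
    refine huniq _ ⟨smul_octad hπ ho, fun x hx => ?_⟩
    exact (mem_smul_of_fix (hfix x hx)).2 (hso hx)
  have hmem : ∀ x ∈ o, π x ∈ o := by
    intro x hx
    have : π x ∈ π • o := Finset.smul_mem_smul_finset hx
    rwa [ho'] at this
  have hU : ∀ x ∈ o \ s5, π x ∈ o \ s5 := by
    intro x hx
    rw [Finset.mem_sdiff] at hx ⊢
    refine ⟨hmem x hx.1, fun h => hx.2 ?_⟩
    have := hfix _ h
    rwa [π.injective this] at h
  have hcU : (o \ s5).card < 5 := by
    rw [Finset.card_sdiff_of_subset hso, card8 ho, hc]; norm_num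
  have hall : ∀ x ∈ o, π x = x := by
    intro x hx
    by_cases h : x ∈ s5
    · exact hfix x h
    · exact fix_of_small h5 hU hcU x (Finset.mem_sdiff.2 ⟨hx, h⟩)
  have h2 : π * π = 1 := fixOct_sq ho (mem_fixOct.2 ⟨hπ, hall⟩)
  calc π = π ^ 5 * ((π * π) * (π * π))⁻¹ := by group
    _ = 1 := by rw [h5, h2]; simp

/-- the stabiliser of a duad has index 231 -/
theorem duad_index {a b : GolayPt} (hab : a ≠ b) (ha : a ≠ none) (ha0 : a ≠ some 0) (hb : b ≠ none)
    (hb0 : b ≠ some 0) : (stabilizer Spor.M22 ({a, b} : Finset GolayPt)).index = 231 := by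
  obtain ⟨g, hg, g1, g2, g3, g4⟩ := map4 (a := none) (b := some 0) (c := a) (d := b)
    (a' := none) (b' := some 0) (c' := some 1) (d' := some 2) (by simp) (Ne.symm ha) (Ne.symm hb)
    (Ne.symm ha0) (Ne.symm hb0) hab (by simp) (by simp) (by simp) (by decide) (by decide) (by decide)
  have h1 : (mk22 g hg g1 g2) • ({a, b} : Finset GolayPt) = sd := by
    show g • ({a, b} : Finset GolayPt) = sd
    rw [Finset.smul_finset_insert, Finset.smul_finset_singleton]
    show ({g a, g b} : Finset GolayPt) = sd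
    rw [g3, g4]; rfl
  rw [← duad.2, index_stabilizer, index_stabilizer, ← h1, orbit_smul]

/-- **Subgroups of index 77 of `M22` are the stabilisers of the hexads.** -/
theorem idx77 (T : Subgroup Spor.M22) (h : T.index = 77) :
    ∃ o ∈ octads, none ∈ o ∧ some 0 ∈ o ∧ T = stabilizer Spor.M22 o := by
  classical
  have := fin_G
  -- an octad through the two points
  obtain ⟨o₁, ⟨ho₁, hs₁⟩, -⟩ := Cfsg.Agent.S0363.result.2
    ({none, some 0, some 1, some 2, some 3} : Finset GolayPt) (by decide)
  have hn₁ : none ∈ o₁ := hs₁ (by simp)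
  have hz₁ : some 0 ∈ o₁ := hs₁ (by simp)
  -- its pointwise stabiliser
  let E : Subgroup Spor.M22 := (fixOct o₁).subgroupOf Spor.M22
  have hE : IsPGroup 2 E := by
    intro e
    refine ⟨1, ?_⟩
    have he : ((e : Spor.M22) : Equiv.Perm GolayPt) ∈ fixOct o₁ := e.2
    have h2 := fixOct_sq ho₁ he
    rw [pow_one, pow_two]
    exact Subtype.ext (Subtype.ext h2)
  obtain ⟨q, hq⟩ := hE.nonempty_fixed_point_of_prime_not_dvd_card (Spor.M22 ⧸ T) (by
    rw [← Subgroup.index_eq_card, h]; norm_num)
  obtain ⟨g, rfl⟩ := QuotientGroup.mk_surjective q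
  have hgE : ∀ e : Spor.M22, (e : Equiv.Perm GolayPt) ∈ fixOct o₁ → g⁻¹ * e * g ∈ T := by
    intro e he
    have h1 : (⟨e, he⟩ : E) • (g : Spor.M22 ⧸ T) = (g : Spor.M22 ⧸ T) := hq ⟨e, he⟩
    have h2 : ((e * g : Spor.M22) : Spor.M22 ⧸ T) = (g : Spor.M22 ⧸ T) := h1
    have h3 := QuotientGroup.eq.1 h2.symm
    rwa [← mul_assoc] at h3
  -- a point outside
  obtain ⟨-, y, hy, -⟩ := exists_in_out (s := o₁) (F := ∅) (by rw [card8 ho₁]; decide)
    (by rw [card8 ho₁]; decide)
  set x' : GolayPt := ((g⁻¹ : Spor.M22) : Equiv.Perm GolayPt) y with hx'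
  set o₂ : Finset GolayPt := ((g⁻¹ : Spor.M22) : Equiv.Perm GolayPt) • o₁ with ho₂d
  have ho₂ : o₂ ∈ octads := smul_octad (M24_of_22 g⁻¹) ho₁
  have hn₂ : none ∈ o₂ := (mem_smul_of_fix (none_of_22 g⁻¹)).2 hn₁
  have hz₂ : some 0 ∈ o₂ := (mem_smul_of_fix (zero_of_22 g⁻¹)).2 hz₁
  have horb : ∀ z, z ∉ o₂ → z ∈ orbit T x' := by
    intro z hz
    have hgz : (g : Equiv.Perm GolayPt) z ∉ o₁ := by
      intro hc
      apply hz
      rw [ho₂d, Finset.mem_smul_finset]
      refine ⟨_, hc, ?_⟩
      show ((g⁻¹ * g : Spor.M22) : Equiv.Perm GolayPt) z = z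
      rw [inv_mul_cancel]; rfl
    obtain ⟨e, ⟨he, hey⟩, -⟩ := existsUnique_fixOct ho₁ hy hgz
    obtain ⟨he1, he2⟩ := mem_fixOct.1 he
    let e' : Spor.M22 := mk22 e he1 (he2 _ hn₁) (he2 _ hz₁)
    refine ⟨⟨g⁻¹ * e' * g, hgE e' he⟩, ?_⟩
    have hg1 : (g : Equiv.Perm GolayPt) x' = y := by
      show ((g * g⁻¹ : Spor.M22) : Equiv.Perm GolayPt) y = y
      rw [mul_inv_cancel]; rfl
    show ((g⁻¹ : Spor.M22) : Equiv.Perm GolayPt) (e ((g : Equiv.Perm GolayPt) x')) = z
    rw [hg1, hey]
    show ((g⁻¹ * g : Spor.M22) : Equiv.Perm GolayPt) z = z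
    rw [inv_mul_cancel]; rfl
  -- the complement of the orbit
  set s : Finset GolayPt := Finset.univ.filter fun z => z ∉ orbit T x' with hs
  have mem_s : ∀ z, z ∈ s ↔ z ∉ orbit T x' := by intro z; rw [hs]; simp
  have hso : s ⊆ o₂ := by
    intro z hz
    by_contra hc
    exact (mem_s z).1 hz (horb z hc)
  have hx'o : x' ∉ o₂ := by
    rw [ho₂d, Finset.mem_smul_finset]
    rintro ⟨w, hw, hwx⟩
    have : w = y := ((g⁻¹ : Spor.M22) : Equiv.Perm GolayPt).injective (hwx.trans hx')
    exact hy (this ▸ hw)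
  have hinv : ∀ (t : T) z, z ∈ s → ((t : Spor.M22) : Equiv.Perm GolayPt) z ∈ s := by
    intro t z hz
    rw [mem_s] at hz ⊢
    intro hc
    apply hz
    have h1 := mem_orbit_of_mem_orbit (M := T) t⁻¹ hc
    have h2 : t⁻¹ • (((t : Spor.M22) : Equiv.Perm GolayPt) z) = z := inv_smul_smul t z
    rwa [h2] at h1
  have hns : none ∈ s := by
    rw [mem_s]
    rintro ⟨t, ht⟩
    have h1 : ((t : Spor.M22) : Equiv.Perm GolayPt) x' = none := ht
    have h2 : x' = none := ((t : Spor.M22) : Equiv.Perm GolayPt).injective (h1.trans (none_of_22 _).symm)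
    exact hx'o (h2 ▸ hn₂)
  have hzs : some 0 ∈ s := by
    rw [mem_s]
    rintro ⟨t, ht⟩
    have h1 : ((t : Spor.M22) : Equiv.Perm GolayPt) x' = some 0 := ht
    have h2 : x' = some 0 := ((t : Spor.M22) : Equiv.Perm GolayPt).injective (h1.trans (zero_of_22 _).symm)
    exact hx'o (h2 ▸ hz₂)
  have hcard : (orbit T x').ncard + s.card = 24 := by
    have h1 : orbit T x' = ((Finset.univ.filter fun z => z ∈ orbit T x' : Finset GolayPt) : Set GolayPt) := by
      ext z; simp
    rw [h1, Set.ncard_coe_finset, hs, Finset.card_filter_add_card_filter_not]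
    decide
  have hT : Nat.card T = 5760 := by
    have h1 := T.card_mul_index
    rw [h, card_G] at h1
    omega
  have hdvd : (orbit T x').ncard ∣ 5760 := by
    rw [← index_stabilizer, ← hT]
    exact Subgroup.index_dvd_card _
  have hle : s.card ≤ 8 := by
    rw [← card8 ho₂]; exact Finset.card_le_card hso
  have h2s : ({none, some 0} : Finset GolayPt) ⊆ s := by
    intro z hz
    rw [Finset.mem_insert, Finset.mem_singleton] at hz
    rcases hz with rfl | rfl
    · exact hns
    · exact hzs
  have hge : 2 ≤ s.card := by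
    have := Finset.card_le_card h2s
    rwa [Finset.card_pair n0] at this
  have hcases : s.card = 4 ∨ s.card = 6 ∨ s.card = 8 := by
    have h1 : (orbit T x').ncard = 24 - s.card := by omega
    rw [h1] at hdvd
    generalize s.card = c at *
    interval_cases c <;> revert hdvd <;> decide
  rcases hcases with hc | hc | hc
  · -- a duad is invariant
    exfalso
    have hu : (s \ {none, some 0}).card = 2 := by
      rw [Finset.card_sdiff_of_subset h2s, hc, Finset.card_pair n0]
    obtain ⟨a, b, hab, habs⟩ := Finset.card_eq_two.1 hu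
    have ha : a ∈ s \ {none, some 0} := by rw [habs]; simp
    have hb : b ∈ s \ {none, some 0} := by rw [habs]; simp
    rw [Finset.mem_sdiff, Finset.mem_insert, Finset.mem_singleton, not_or] at ha hb
    have hidx := duad_index hab ha.2.1 ha.2.2 hb.2.1 hb.2.2
    have hle' : T ≤ stabilizer Spor.M22 ({a, b} : Finset GolayPt) := by
      intro t ht
      rw [mem_stabilizer_iff]
      refine Finset.eq_of_subset_of_card_le ?_ (by rw [Finset.card_smul_finset])
      intro z hz
      obtain ⟨w, hw, hwz⟩ := Finset.mem_smul_finset.1 hz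
      have hwz' : (t : Equiv.Perm GolayPt) w = z := hwz
      rw [← habs, Finset.mem_sdiff, Finset.mem_insert, Finset.mem_singleton, not_or] at hw ⊢
      refine ⟨hwz' ▸ hinv ⟨t, ht⟩ w hw.1, ?_, ?_⟩
      · rintro rfl
        exact hw.2.1 ((t : Equiv.Perm GolayPt).injective (hwz'.trans (none_of_22 _).symm))
      · rintro rfl
        exact hw.2.2 ((t : Equiv.Perm GolayPt).injective (hwz'.trans (zero_of_22 _).symm))
    have h1 := Subgroup.relIndex_mul_index hle'
    rw [hidx, h] at h1
    omega
  · -- an element of order five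
    exfalso
    have : Fact (Nat.Prime 5) := ⟨by norm_num⟩
    obtain ⟨f, hf⟩ := exists_prime_orderOf_dvd_card' (G := T) 5 (by rw [hT]; norm_num)
    set π : Equiv.Perm GolayPt := ((f : Spor.M22) : Equiv.Perm GolayPt) with hπ
    have h5 : π ^ 5 = 1 := by
      have h1 : f ^ 5 = 1 := by rw [← hf]; exact pow_orderOf_eq_one f
      have h2 := congrArg (fun t : T => ((t : Spor.M22) : Equiv.Perm GolayPt)) h1
      simpa using h2
    have hU : ∀ x ∈ s \ {none, some 0}, π x ∈ s \ {none, some 0} := by
      intro x hx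
      rw [Finset.mem_sdiff, Finset.mem_insert, Finset.mem_singleton, not_or] at hx ⊢
      refine ⟨hinv f x hx.1, fun hc => hx.2.1 ?_, fun hc => hx.2.2 ?_⟩
      · exact π.injective (hc.trans (none_of_22 _).symm)
      · exact π.injective (hc.trans (zero_of_22 _).symm)
    have hcU : (s \ {none, some 0}).card < 5 := by
      rw [Finset.card_sdiff_of_subset h2s, hc, Finset.card_pair n0]; norm_num
    have hall : ∀ x ∈ s, π x = x := by
      intro x hx
      by_cases hx2 : x ∈ ({none, some 0} : Finset GolayPt)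
      · rw [Finset.mem_insert, Finset.mem_singleton] at hx2
        rcases hx2 with rfl | rfl
        · exact none_of_22 _
        · exact zero_of_22 _
      · exact fix_of_small h5 hU hcU x (Finset.mem_sdiff.2 ⟨hx, hx2⟩)
    have h1 : π = 1 := eq_one_of_five (M24_of_22 _) h5 (by omega) hall
    have h2 : f = 1 := Subtype.ext (Subtype.ext h1)
    rw [h2, orderOf_one] at hf
    norm_num at hf
  · -- the octad is invariant
    have hsE : s = o₂ := Finset.eq_of_subset_of_card_le hso (by rw [card8 ho₂, hc])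
    refine ⟨o₂, ho₂, hn₂, hz₂, ?_⟩
    have hle' : T ≤ stabilizer Spor.M22 o₂ := by
      intro t ht
      rw [mem_stabilizer_iff]
      refine Finset.eq_of_subset_of_card_le ?_ (Finset.card_smul_finset t o₂).ge
      intro z hz
      obtain ⟨w, hw, hwz⟩ := Finset.mem_smul_finset.1 hz
      have hwz' : (t : Equiv.Perm GolayPt) w = z := hwz
      rw [← hsE] at hw ⊢
      exact hwz' ▸ hinv ⟨t, ht⟩ w hw
    have h1 := Subgroup.relIndex_mul_index hle'
    rw [(hexad ho₂ hn₂ hz₂).2, h] at h1
    have h2 : T.relIndex (stabilizer Spor.M22 o₂) = 1 := by omega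
    exact le_antisymm hle' (Subgroup.relIndex_eq_one.1 h2)

end Cfsg.Agent.H911.S8
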